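import Groth.Agent.KerEmbed.Van

/-! Sections of all large degrees, vanishing on `Z`, with affine loci covering the complement and generating
their rings of functions. -/

universe u

open CategoryTheory CategoryTheory.Limits AlgebraicGeometry TopologicalSpace

set_option backward.isDefEq.respectTransparency false
set_option backward.isDefEq.respectTransparency.types false
set_option linter.style.haveILetI false
set_option maxHeartbeats 2000000

namespace Groth.Agent.KerEmbed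

open Groth.Agent Groth.Agent.InvX Groth.Agent.H23

attribute [local instance] PicMul.clMonoid

/-- Chart data for the linear system of sections of `M` vanishing on `Z`. -/
def Charts {X Y Z : Scheme.{u}} (q : X ⟶ Y) (i : Z ⟶ X) (U : X.Opens) (M : X.Modules) : Prop :=
  ∃ (ι : Type u) (_ : Fintype ι) (V : ι → X.Opens) (S : ι → Γ(M, ⊤)) (β : ι → Type u)
    (_ : ∀ p, Fintype (β p)) (T : ∀ p, β p → Γ(M, ⊤)) (b : ∀ p, β p → Γ(X, V p)),
    (∀ p, TrivBasic.locus (S p) = V p) ∧ (∀ p, IsAffineOpen (V p)) ∧ (∀ p, V p ≤ U) ∧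
    (∀ x ∈ U, ∃ p, x ∈ V p) ∧ (∀ p, Van i (S p)) ∧ (∀ p j, Van i (T p j)) ∧
    (∀ p j, AModX.res M (le_top : V p ≤ ⊤) (T p j) = b p j • AModX.res M (le_top : V p ≤ ⊤) (S p)) ∧
    ∀ p (R : Subring Γ(X, V p)), Set.range (VAmpleX.baseFn q (V p)) ⊆ R → Set.range (b p) ⊆ R → R = ⊤

theorem Charts.of_iso {X Y Z : Scheme.{u}} {q : X ⟶ Y} {i : Z ⟶ X} {U : X.Opens} {M M' : X.Modules}
    (h : Charts q i U M) (e : M ≅ M') : Charts q i U M' := by
  obtain ⟨ι, hι, V, S, β, hβ, T, b, hV, ha, hle, hcov, hS, hT, hb, hgen⟩ := h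
  refine ⟨ι, hι, V, fun p => e.hom.app ⊤ (S p), β, hβ, fun p j => e.hom.app ⊤ (T p j), b, fun p => ?_,
    ha, hle, hcov, fun p => (hS p).map e.hom, fun p j => (hT p j).map e.hom, fun p j => ?_, hgen⟩
  · rw [← hV p]
    show CohB1.genLocus M' (ofSect _) = CohB1.genLocus M (ofSect _)
    rw [← InvX.genLocus_comp_iso (ofSect (S p)) e]
    congr 1
    refine sub_eq_zero.1 (AmpleX.eq_zero_of_one_eq_zero _ ?_)
    show one (ofSect (e.hom.app ⊤ (S p))) - e.hom.app ⊤ (one (ofSect (S p))) = 0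
    rw [one_ofSect, one_ofSect]
    exact sub_self _
  · rw [← AModX.app_res, ← AModX.app_res, hb, Scheme.Modules.Hom.app_smul]

/-- The sections `Z' ⊗ s` vanish on `Z` and give charts. -/
theorem charts_of_extend {X Y Z : Scheme.{u}} [IsAffine Y] (q : X ⟶ Y) (i : Z ⟶ X) (W : X.Opens) {A P : X.Modules}
    (hA : PicF.IsInvertible A) (hP : PicF.IsInvertible P) {ι : Type u} [Fintype ι] (U : ι → X.Opens)
    (haff : ∀ j, IsAffineOpen (U j)) (hUW : ∀ j, U j ≤ W) (s : ι → Γ(P, ⊤)) (hvan : ∀ j, Van i (s j))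
    (hs : ∀ j, TrivBasic.locus (s j) = U j)
    (g : ∀ j, Γ(X, U j)) (hcov : ∀ x ∈ W, ∃ j, x ∈ X.basicOpen (g j)) (E : ∀ j, Γ(A, U j))
    (hE : ∀ j, InvX.IsFrame (AModX.res A (X.basicOpen_le (g j)) (E j))) (G : ∀ j, Finset Γ(X, U j))
    (hG : ∀ j (R : Subring Γ(X, U j)), Set.range (VAmpleX.baseFn q (U j)) ⊆ (R : Set Γ(X, U j)) →
      (G j : Set Γ(X, U j)) ⊆ (R : Set Γ(X, U j)) → R = ⊤)
    (Z0 Z1 : ι → Γ(A, ⊤)) (hZ0 : ∀ j, AModX.res A (le_top : U j ≤ ⊤) (Z0 j) = g j • E j)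
    (hZ1 : ∀ j, AModX.res A (le_top : U j ≤ ⊤) (Z1 j) = E j)
    (Z2 : ∀ j, G j → Γ(A, ⊤)) (hZ : ∀ j b, AModX.res A (le_top : U j ≤ ⊤) (Z2 j b) = (b.1 * g j) • E j) :
    Charts q i W (CohB1.tensorMod A P) := by
  classical
  have hgu : ∀ j, IsUnit (AModX.resR (X.basicOpen_le (g j)) (g j)) := fun j =>
    RingedSpace.isUnit_res_basicOpen X.toRingedSpace (g j)
  obtain ⟨v, hv⟩ : ∃ v : ∀ j, Γ(X, X.basicOpen (g j)), ∀ j, AModX.resR (X.basicOpen_le (g j)) (g j) * v j = 1 :=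
    ⟨fun j => ↑(hgu j).unit⁻¹, fun j => (hgu j).mul_val_inv⟩
  have hloc : ∀ j, TrivBasic.locus (InvX.tmul (Z0 j) (s j)) = X.basicOpen (g j) := fun j => by
    rw [VAmpleX.locus_tmul hA hP, hs]
    refine VAmpleX.locus_inf_eq_basicOpen _ (g j) (E j) (hZ0 j) ?_
    rw [← AModX.res_res (le_top : U j ≤ ⊤) (X.basicOpen_le (g j)), hZ0, AModX.res_smul]
    exact (hE j).isUnit_smul (hgu j)
  have key : ∀ j (z : Γ(A, ⊤)) (c : Γ(X, U j)), AModX.res A (le_top : U j ≤ ⊤) z = c • E j →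
      AModX.res (CohB1.tensorMod A P) (le_top : X.basicOpen (g j) ≤ ⊤) (InvX.tmul z (s j)) =
        AModX.resR (X.basicOpen_le (g j)) c • InvX.tmul (AModX.res A (X.basicOpen_le (g j)) (E j))
          (AModX.res P (le_top : X.basicOpen (g j) ≤ ⊤) (s j)) := fun j z c h => by
    rw [res_tmul, ← AModX.res_res (le_top : U j ≤ ⊤) (X.basicOpen_le (g j)) z, h, AModX.res_smul,
      InvX.tmul_smul_left]
  refine ⟨ι, inferInstance, fun j => X.basicOpen (g j), fun j => InvX.tmul (Z0 j) (s j),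
    fun j => Option (G j), inferInstance, fun j o => InvX.tmul (o.elim (Z1 j) (Z2 j)) (s j),
    fun j o => o.elim (v j) fun b => AModX.resR (X.basicOpen_le (g j)) b.1, hloc,
    fun j => (haff j).basicOpen _, fun j => (X.basicOpen_le _).trans (hUW j), hcov,
    fun j => (hvan j).tmul _, fun j o => (hvan j).tmul _, fun j o => ?_, fun j R h1 h2 => ?_⟩
  · rw [key j (Z0 j) (g j) (hZ0 j)]
    rcases o with _ | b <;> dsimp only [Option.elim]
    · rw [key j (Z1 j) 1 ((hZ1 j).trans (one_smul _ _).symm), map_one, one_smul]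
      show _ = v j • _
      rw [← mul_smul, mul_comm, hv, one_smul]
    · rw [key j (Z2 j b) _ (hZ j b), map_mul, mul_smul]
  · have hU : ∀ z, AModX.resR (X.basicOpen_le (g j)) z ∈ R := fun z => by
      have h3 := hG j (R.comap (AModX.resR (X.basicOpen_le (g j)))) (by
        rintro _ ⟨c, rfl⟩
        refine h1 ⟨c, ?_⟩
        show (q.appLE ⊤ _ le_top) c = (X.presheaf.map (homOfLE (X.basicOpen_le (g j))).op) ((q.appLE ⊤ _ le_top) c)
        rw [← CommRingCat.comp_apply, Scheme.Hom.appLE_map]) fun b hb => h2 ⟨some ⟨b, hb⟩, rfl⟩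
      exact h3.ge (Subring.mem_top z)
    refine top_le_iff.1 fun z _ => ?_
    haveI := (haff j).isLocalization_basicOpen (g j)
    obtain ⟨⟨a, ⟨_, l, rfl⟩⟩, hz⟩ := IsLocalization.surj (Submonoid.powers (g j)) z
    have hz' : z * AModX.resR (X.basicOpen_le (g j)) (g j) ^ l = AModX.resR (X.basicOpen_le (g j)) a := by
      rw [← map_pow]
      exact hz
    rw [show z = AModX.resR (X.basicOpen_le (g j)) a * v j ^ l by
      rw [← hz', mul_assoc, ← mul_pow, hv, one_pow, mul_one]]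
    exact R.mul_mem (hU a) (R.pow_mem (h2 ⟨none, rfl⟩) l)

theorem exists_bound_residue {X Y Z : Scheme.{u}} [IsAffine Y] (q : X ⟶ Y) [IsSeparated q] [LocallyOfFiniteType q]
    [CompactSpace X] (i : Z ⟶ X) {L'' P : X.Modules} (hL'' : PicF.IsInvertible L'') (hP : PicF.IsInvertible P)
    {κ : Type u} [Fintype κ] (σ : κ → (Coh.structureModule X ⟶ P))
    (haff : ∀ k, IsAffineOpen (CohB1.genLocus P (σ k))) (hvan : ∀ k, Van i (InvX.one (σ k)))
    (W : X.Opens) (hW : IsCompact (W : Set X)) (hle : ∀ k, CohB1.genLocus P (σ k) ≤ W)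
    (hcov : ∀ x ∈ W, ∃ k, x ∈ CohB1.genLocus P (σ k)) :
    ∃ m₀, ∀ m, m₀ ≤ m → Charts q i W
      (CohB1.tensorMod (CohB1.tensorMod L'' (CohB1.tensorPow P m)) P) := by
  classical
  haveI : X.IsSeparated := ⟨by
    rw [← Limits.terminal.comp_from q]
    infer_instance⟩
  have hq := ProjUPX.isQCoh_of_isInvertible hL''
  have hx : ∀ x : W, ∃ (k : κ) (g : Γ(X, CohB1.genLocus P (σ k))) (t : Γ(L'', CohB1.genLocus P (σ k))),
      x.1 ∈ X.basicOpen g ∧ InvX.IsFrame (AModX.res L'' (X.basicOpen_le g) t) := by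
    intro x
    obtain ⟨k, hk⟩ := hcov x x.2
    obtain ⟨O, hxO, e, he⟩ := InvX.exists_frame hL'' x.1
    obtain ⟨g, hg, hxg⟩ := (haff k).exists_basicOpen_le ⟨x.1, hxO⟩ hk
    obtain ⟨N, t, ht⟩ := QCoh.exists_pow_smul_eq_map hq (haff k) g (AModX.res L'' hg e)
    refine ⟨k, g, t, hxg, ?_⟩
    rw [show AModX.res L'' (X.basicOpen_le g) t = _ from ht]
    exact (he.res hg).isUnit_smul ((RingedSpace.isUnit_res_basicOpen X.toRingedSpace g).pow N)
  choose k g t hxg ht using hx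
  obtain ⟨Sx, hSx⟩ := hW.elim_finite_subcover (fun x => (X.basicOpen (g x) : Set X))
    (fun x => (X.basicOpen (g x)).2) (fun x hx => Set.mem_iUnion.2 ⟨⟨x, hx⟩, hxg _⟩)
  have hgenU : ∀ x, ∃ G : Finset Γ(X, CohB1.genLocus P (σ (k x))),
      ∀ R : Subring Γ(X, CohB1.genLocus P (σ (k x))),
        Set.range (VAmpleX.baseFn q (CohB1.genLocus P (σ (k x)))) ⊆ (R : Set Γ(X, CohB1.genLocus P (σ (k x)))) →
          (G : Set Γ(X, CohB1.genLocus P (σ (k x)))) ⊆ (R : Set Γ(X, CohB1.genLocus P (σ (k x)))) → R = ⊤ := fun x => by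
    letI := (VAmpleX.baseFn q (CohB1.genLocus P (σ (k x)))).toAlgebra
    obtain ⟨G, hG⟩ := (show Algebra.FiniteType Γ(Y, ⊤) Γ(X, CohB1.genLocus P (σ (k x))) from
      q.finiteType_appLE (isAffineOpen_top _) (haff (k x)) le_top).out
    refine ⟨G, fun S h1 h2 => top_le_iff.1 fun z hz0 => ?_⟩
    clear hz0
    have hz : z ∈ Algebra.adjoin Γ(Y, ⊤) (G : Set Γ(X, CohB1.genLocus P (σ (k x)))) := hG ▸ Algebra.mem_top
    induction hz using Algebra.adjoin_induction with
    | mem y hy => exact h2 hy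
    | algebraMap c => exact h1 ⟨c, rfl⟩
    | add y z _ _ hy hz => exact S.add_mem hy hz
    | mul y z _ _ hy hz => exact S.mul_mem hy hz
  choose G hG using hgenU
  let ι := ↥Sx
  let coef : ∀ x : ι, Option (Option (G x.1)) → Γ(X, CohB1.genLocus P (σ (k x.1))) := fun x o =>
    o.elim (g x.1) fun o' => o'.elim 1 fun b => b.1 * g x.1
  choose n₀ hn₀ using fun p : Σ x : ι, Option (Option (G x.1)) =>
    AmpleX.exists_extend hq hP (σ (k p.1.1)) (coef p.1 p.2 • t p.1.1)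
  refine ⟨Finset.univ.sup n₀, fun m hm => ?_⟩
  choose T hT using fun p : Σ x : ι, Option (Option (G x.1)) =>
    hn₀ p m ((Finset.le_sup (Finset.mem_univ p)).trans hm)
  have hA := InvX.isInvertible_tensorMod hL'' (InvX.isInvertible_tensorPow hP m)
  have hσ : ∀ x, TrivBasic.locus (one (σ x)) = CohB1.genLocus P (σ x) := fun x => by
    have h1 : InvX.ofSect (one (σ x)) = σ x := sub_eq_zero.1 (AmpleX.eq_zero_of_one_eq_zero _ (by
      show one (ofSect (one (σ x))) - one (σ x) = 0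
      rw [one_ofSect, sub_self]))
    show CohB1.genLocus P (InvX.ofSect (one (σ x))) = _
    rw [h1]
  refine charts_of_extend q i W hA hP (fun x : ι => CohB1.genLocus P (σ (k x.1))) (fun x => haff _)
    (fun x => hle _) (fun x => one (σ (k x.1))) (fun x => hvan _) (fun x => hσ _) (fun x => g x.1) (fun p hp => ?_)
    (fun x => InvX.tmul (t x.1) (AmpleX.powElt
      (AModX.res P (le_top : CohB1.genLocus P (σ (k x.1)) ≤ ⊤) (one (σ (k x.1)))) m)) (fun x => ?_)
    (fun x => G x.1) (fun x => hG x.1) (fun x => T ⟨x, none⟩) (fun x => T ⟨x, some none⟩) (fun x => ?_) (fun x => ?_)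
    (fun x b => T ⟨x, some (some b)⟩) fun x b => ?_
  · obtain ⟨x, hx, hp⟩ := Set.mem_iUnion₂.1 (hSx hp)
    exact ⟨⟨x, hx⟩, hp⟩
  · rw [res_tmul, AmpleX.res_powElt, AModX.res_res]
    refine isFrame_tmul (ht x.1) (AmpleX.isFrame_powElt ?_ m)
    exact TrivBasic.isFrame_res_of_le_locus ((X.basicOpen_le _).trans (hσ (k x.1)).ge)
  · rw [hT ⟨x, none⟩, InvX.tmul_smul_left]; rfl
  · rw [hT ⟨x, some none⟩, InvX.tmul_smul_left]; exact one_smul _ _
  · rw [hT ⟨x, some (some b)⟩, InvX.tmul_smul_left]; rfl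

/-- All large powers of an ample module have charts. -/
theorem eventually_charts {X Y Z : Scheme.{u}} [IsAffine Y] (q : X ⟶ Y) [IsSeparated q] [LocallyOfFiniteType q]
    (i : Z ⟶ X) [IsClosedImmersion i] {L : X.Modules} (hL : CohB1.IsAmple L) (U : X.Opens)
    (hU : (U : Set X) = (Set.range i)ᶜ) (hUc : IsCompact (U : Set X)) :
    ∃ n₀ : ℕ, ∀ n : ℕ, n₀ ≤ n → Charts q i U (CohB1.tensorPow L n) := by
  classical
  haveI : CompactSpace X := hL.2.1
  haveI : X.IsSeparated := ⟨by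
    rw [← Limits.terminal.comp_from q]
    infer_instance⟩
  obtain ⟨a, ha, κ, _, σ, haff, hvan, hle, hcov⟩ := exists_cover (i := i) hL U hU hUc
  have hP := InvX.isInvertible_tensorPow hL.1 a
  choose m₀ hm₀ using fun r : Fin a => exists_bound_residue q i (InvX.isInvertible_tensorPow hL.1 r.1) hP σ
    haff hvan U hUc hle hcov
  refine ⟨a * (Finset.univ.sup m₀ + 1), fun n hn => ?_⟩
  let r : Fin a := ⟨n % a, Nat.mod_lt _ ha⟩
  have h1 : Finset.univ.sup m₀ + 1 ≤ n / a := (Nat.le_div_iff_mul_le ha).2 (by rwa [mul_comm])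
  obtain ⟨m, hm⟩ := Nat.exists_eq_add_of_le' (le_trans (Nat.le_add_left 1 _) h1)
  have h2 := hm₀ r m (by have := Finset.le_sup (f := m₀) (Finset.mem_univ r); omega)
  have hn' : n = r.1 + a * m + a := by
    have := Nat.mod_add_div n a
    rw [hm, Nat.mul_add, mul_one] at this
    show n = n % a + a * m + a
    omega
  have hcl : PicF.cl (CohB1.tensorMod (CohB1.tensorMod (CohB1.tensorPow L r.1)
      (CohB1.tensorPow (CohB1.tensorPow L a) m)) (CohB1.tensorPow L a)) =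
      PicF.cl (CohB1.tensorPow L n) := by
    simp only [PicMul.cl_tensor, PicMul.cl_tensorPow]
    rw [hn', pow_add, pow_add, pow_mul]
  obtain ⟨e⟩ := PicMul.cl_eq_iff.1 hcl
  exact h2.of_iso e

end Groth.Agent.KerEmbed
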