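import Groth.Agent.KerEmbed.Charts
import Groth.Agent.HyperplaneLib.Main
import Groth.Agent.SeesawX.PnSpec

/-! The morphism of a linear system with charts is an immersion. -/

universe u

open CategoryTheory CategoryTheory.Limits AlgebraicGeometry TopologicalSpace HomogeneousLocalization

set_option backward.isDefEq.respectTransparency false
set_option backward.isDefEq.respectTransparency.types false
set_option linter.style.haveILetI false
set_option maxHeartbeats 1600000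

namespace Groth.Agent.KerEmbed

open Groth.Agent Groth.Agent.InvX Groth.Agent.H23

variable {X : Scheme.{u}}

/-- The restriction of a global section, as a section of the restricted module. -/
noncomputable def restrSec (U : X.Opens) (M : X.Modules) (v : Γ(M, ⊤)) : Γ(M.restrict U.ι, ⊤) :=
  (M.restrictAppIso U.ι ⊤).inv ((M.presheaf.map (homOfLE le_top).op) v)

theorem restrSec_iso (U : X.Opens) (M : X.Modules) (v : Γ(M, ⊤)) :
    ((Scheme.Modules.restrictFunctorIsoPullback U.ι).hom.app M).app ⊤ (restrSec U M v) =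
      ProjUP.pullSec U.ι M v := by
  have h := congrArg (fun φ => Scheme.Modules.Hom.app φ (⊤ : X.Opens) v)
    (Adjunction.unit_leftAdjointUniq_hom_app (Scheme.Modules.restrictAdjunction U.ι)
      (Scheme.Modules.pullbackPushforwardAdjunction U.ι) M)
  exact h

theorem toGlobal_comp {Y : Scheme.{u}} {k : Type u} [CommRing k] (j : Y ⟶ X) (f : X ⟶ Spec (CommRingCat.of k))
    (c : k) : j.appTop (ProjUP.toGlobal f c) = ProjUP.toGlobal (j ≫ f) c := by
  simp only [ProjUP.toGlobal, RingHom.coe_comp, Function.comp_apply, Scheme.Hom.comp_appTop, CommRingCat.hom_comp]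

/-- Closed immersions on the charts of a morphism given by sections. -/
theorem isImmersion_of_sections {R : Type u} [CommRing R] {U : Scheme.{u}} {n : ℕ}
    (q : U ⟶ Spec (CommRingCat.of R)) (r : U ⟶ CohB1.ProjSpace n R)
    (hr : r ≫ CohB1.ProjSpace.toSpec n R = q) {L : U.Modules}
    (τ : (Scheme.Modules.pullback r).obj (Twist.twistProjSpace n R 1) ≅ L) {κ : Type u}
    (V : κ → U.Opens) (haff : ∀ p, IsAffineOpen (V p)) (hcov : ∀ x : U, ∃ p, x ∈ V p)
    (jS : κ → Fin (n + 1)) (β : κ → Type u) (jT : ∀ p, β p → Fin (n + 1)) (S : κ → Γ(L, ⊤))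
    (T : ∀ p, β p → Γ(L, ⊤))
    (hS : ∀ p, τ.hom.app ⊤ (ProjUP.pullSec r _ (ProjUP.coord n R (jS p))) = S p)
    (hT : ∀ p j, τ.hom.app ⊤ (ProjUP.pullSec r _ (ProjUP.coord n R (jT p j))) = T p j)
    (hV : ∀ p, TrivBasic.locus (S p) = V p) (b : ∀ p, β p → Γ(U, V p))
    (hb : ∀ p j, AModX.res L (le_top : V p ≤ ⊤) (T p j) = b p j • AModX.res L (le_top : V p ≤ ⊤) (S p))
    (hgen : ∀ p (P : Subring Γ(U, V p)), Set.range (VAmpleX.baseFn q (V p)) ⊆ P → Set.range (b p) ⊆ P → P = ⊤) :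
    IsImmersion r := by
  let D : κ → (CohB1.ProjSpace n R).Opens := fun k =>
    Proj.basicOpen (CohB1.polyGrading n R) (MvPolynomial.X (jS k))
  have hpre : ∀ k, r ⁻¹ᵁ D k = V k := fun k => (AmpleEmbed.preimage_chart r τ _ (hS k)).trans (hV k)
  refine VAmpleX.isImmersion_of_closed_on r D (fun x => ?_) fun k => ?_
  · obtain ⟨k, hk⟩ := hcov x
    exact ⟨k, show x ∈ r ⁻¹ᵁ D k from (hpre k).ge hk⟩
  haveI : IsAffine (D k : Scheme) := Proj.isAffineOpen_basicOpen _ _ (ProjPt.X_mem _) one_pos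
  haveI : IsAffine (r ⁻¹ᵁ D k : Scheme) := by rw [hpre]; exact haff k
  refine IsClosedImmersion.of_surjective_of_isAffine _ ?_
  have hsurj : Function.Surjective (r.appLE (D k) (V k) (hpre k).ge) := by
    refine RingHom.range_eq_top.1 (hgen k _ ?_ ?_)
    · rintro _ ⟨c, rfl⟩
      refine ⟨(CohB1.ProjSpace.toSpec n R).appLE ⊤ (D k) le_top c, ?_⟩
      rw [← CommRingCat.comp_apply, Scheme.Hom.appLE_comp_appLE]
      simp only [hr]
      rfl
    · rintro _ ⟨j, rfl⟩
      refine ⟨(Proj.awayToSection (CohB1.polyGrading n R) (MvPolynomial.X (jS k))).hom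
          (Away.mk (CohB1.polyGrading n R) (ProjPt.X_mem _) 1
            (MvPolynomial.X (jT k j)) (by rw [one_smul]; exact ProjPt.X_mem _)), ?_⟩
      exact AmpleEmbed.ratioOf_eq r τ _ _ (hS k) (hT k j) (hpre k).ge (b k j) (hb k j)
  intro z
  rw [morphismRestrict_appTop]
  obtain ⟨y, hy⟩ := hsurj (U.presheaf.map (eqToHom (hpre k).symm).op
    ((r ⁻¹ᵁ D k).topIso.hom z))
  refine ⟨(D k).topIso.inv y, (ConcreteCategory.bijective_of_isIso (r ⁻¹ᵁ D k).topIso.hom).1 ?_⟩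
  apply (ConcreteCategory.bijective_of_isIso (U.presheaf.map (eqToHom (hpre k).symm).op)).1
  rw [← hy]
  simp only [← CommRingCat.comp_apply]
  congr 2
  simp only [Scheme.Hom.appLE, Scheme.Opens.topIso, Category.assoc]
  simp [← Functor.map_comp]
  rw [r.naturality_assoc, ← Functor.map_comp]
  rfl

theorem main {k : Type u} [Field k] {Z : Scheme.{u}} (f : X ⟶ Spec (CommRingCat.of k)) (i : Z ⟶ X)
    (U : X.Opens) {M : X.Modules} (hM : PicF.IsInvertible M) (h : Charts f i U M) :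
    ProjUP.GeneratedBy (M.restrict U.ι)
        (fun v : {s : ProjUP.Γm M // ProjUP.pullSec i M s = 0} => restrSec U M v.1) ∧
      ∀ (r : ℕ) (s : Fin (r + 1) → ProjUP.Γm M),
        (∀ v : ProjUP.Γm M, ProjUP.pullSec i M v = 0 →
          ∃ c : Fin (r + 1) → k, v = ∑ j, ProjUP.toGlobal f (c j) • s j) →
        ∀ (φ : (U : Scheme.{u}) ⟶ CohB1.ProjSpace r k) (_ : φ ≫ CohB1.ProjSpace.toSpec r k = U.ι ≫ f)
          (τ : (Scheme.Modules.pullback φ).obj (Twist.twistProjSpace r k 1) ≅ M.restrict U.ι)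
          (_ : ∀ j, τ.hom.app ⊤ (ProjUP.pullSec φ (Twist.twistProjSpace r k 1) (ProjUP.coord r k j)) =
            restrSec U M (s j)),
          IsImmersion φ := by
  classical
  obtain ⟨ι, hι, V, S, β, hβ, T, b, hV, haff, hle, hcov, hS, hT, hb, hgen⟩ := h
  let ε : M.restrict U.ι ≅ (Scheme.Modules.pullback U.ι).obj M :=
    (Scheme.Modules.restrictFunctorIsoPullback U.ι).app M
  constructor
  · refine ProjUPX.generatedBy_of_frames _ fun x => ?_
    obtain ⟨p, hp⟩ := hcov x.1 x.2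
    refine ⟨⟨S p, (hS p).pullSec_eq_zero⟩, U.ι ⁻¹ᵁ V p, hp, ?_⟩
    have h1 : InvX.IsFrame (AModX.res _ (le_top : U.ι ⁻¹ᵁ V p ≤ ⊤) (ProjUP.pullSec U.ι M (S p))) := by
      refine TrivBasic.isFrame_res_of_le_locus ?_
      rw [← hV p]
      exact (TrivBasic.locus_pullElt hM U.ι (S p)).ge
    rw [← restrSec_iso] at h1
    have h2 : InvX.IsFrame (ε.hom.app (U.ι ⁻¹ᵁ V p) (AModX.res (M.restrict U.ι) le_top (restrSec U M (S p)))) := by
      rw [AModX.app_res]
      exact h1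
    have h3 := InvX.IsFrame.map_iso ε.symm h2
    have h4 : ε.inv.app (U.ι ⁻¹ᵁ V p) (ε.hom.app (U.ι ⁻¹ᵁ V p) (AModX.res (M.restrict U.ι) le_top (restrSec U M (S p)))) =
        AModX.res (M.restrict U.ι) le_top (restrSec U M (S p)) := by
      change (ε.hom ≫ ε.inv).app _ _ = _
      rw [ε.hom_inv_id]
      rfl
    exact h4 ▸ h3
  intro r s hspan φ hφ τ hτ
  have hcS : ∀ p, ∃ c : Fin (r + 1) → k, S p = ∑ j, ProjUP.toGlobal f (c j) • s j :=
    fun p => hspan _ (hS p).pullSec_eq_zero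
  have hcT : ∀ p j, ∃ c : Fin (r + 1) → k, T p j = ∑ l, ProjUP.toGlobal f (c l) • s l :=
    fun p j => hspan _ (hT p j).pullSec_eq_zero
  choose cS hcS using hcS
  choose cT hcT using hcT
  let J := Fin (r + 1) ⊕ (ι ⊕ Σ p, β p)
  obtain ⟨n, ⟨e⟩⟩ : ∃ n, Nonempty (Fin (n + 1) ≃ J) := by
    haveI : Nonempty J := ⟨Sum.inl 0⟩
    obtain ⟨n, hn⟩ := Nat.exists_eq_add_one.2 (Fintype.card_pos (α := J))
    exact ⟨n, ⟨(finCongr hn.symm).trans (Fintype.equivFin _).symm⟩⟩
  let cv : J → Fin (r + 1) → k := Sum.elim (fun j => Pi.single j 1) (Sum.elim cS fun p => cT p.1 p.2)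
  let ℓ : J → Γ(Twist.twistProjSpace r k 1, ⊤) := fun o =>
    ∑ j, ProjUP.toGlobal (CohB1.ProjSpace.toSpec r k) (cv o j) • ProjUP.coord r k j
  have hℓ : ∀ j, ℓ (Sum.inl j) = ProjUP.coord r k j := fun j => by
    refine (Finset.sum_eq_single j (fun l _ hl => ?_) fun h => absurd (Finset.mem_univ j) h).trans ?_
    · show ProjUP.toGlobal _ (Pi.single (M := fun _ => k) j 1 l) • _ = _
      rw [Pi.single_eq_of_ne hl, map_zero, zero_smul]
    · show ProjUP.toGlobal _ (Pi.single (M := fun _ => k) j 1 j) • _ = _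
      rw [Pi.single_eq_same, map_one, one_smul]
  have hO : PicF.IsInvertible (Twist.twistProjSpace r k 1) :=
    PnCoh.Finite.isInvertible_twist (fun j : ULift.{u} (Fin (r + 1)) => MvPolynomial.X j.down)
      (fun j => ProjPt.X_mem j.down) (by
        refine top_le_iff.1 ((AmpleEmbed.iSup_basicOpen_X r k).ge.trans (iSup_le fun j => ?_))
        exact le_iSup_of_le (ULift.up j) le_rfl) 1
  have hgl : ProjUP.GeneratedBy (Twist.twistProjSpace r k 1) (fun a => ℓ (e a)) := fun x => by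
    refine top_le_iff.1 ((SeesawX.PnSpec.generatedBy_coord (A := k) (n := r) x).ge.trans (Submodule.span_le.2 ?_))
    rintro _ ⟨j, rfl⟩
    refine Submodule.subset_span ⟨e.symm (Sum.inl j), ?_⟩
    show ((Twist.twistProjSpace r k 1).presheaf.germ ⊤ x trivial).hom (ℓ (e (e.symm _))) = _
    rw [Equiv.apply_symm_apply, hℓ]
  obtain ⟨Λ, hΛ, τΛ, hτΛ⟩ := S3572.result n (CohB1.ProjSpace.toSpec r k) _ hO (fun a => ℓ (e a)) hgl
  let τ' : (Scheme.Modules.pullback (φ ≫ Λ)).obj (Twist.twistProjSpace n k 1) ≅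
      (Scheme.Modules.pullback U.ι).obj M :=
    ((Scheme.Modules.pullbackComp φ Λ).app _).symm ≪≫ (Scheme.Modules.pullback φ).mapIso τΛ ≪≫ τ ≪≫ ε
  have hval : ∀ (o : J) (v : Γ(M, ⊤)), v = ∑ j, ProjUP.toGlobal f (cv o j) • s j →
      τ'.hom.app ⊤ (ProjUP.pullSec (φ ≫ Λ) _ (ProjUP.coord n k (e.symm o))) = ProjUP.pullSec U.ι M v := by
    intro o v hv
    show ε.hom.app ⊤ (τ.hom.app ⊤ (((Scheme.Modules.pullback φ).map τΛ.hom).app ⊤
      (((Scheme.Modules.pullbackComp φ Λ).inv.app _).app ⊤ (ProjUP.pullSec (φ ≫ Λ) _ _)))) = _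
    rw [HyperplaneLib.comp_inv_app_pullSec, HyperplaneLib.map_app_pullSec, hτΛ]
    rw [show e (e.symm o) = o from e.apply_symm_apply o]
    rw [HyperplaneLib.pullSec_lin φ _ hφ, map_sum, map_sum, hv, HyperplaneLib.pullSec_lin U.ι M rfl]
    refine Finset.sum_congr rfl fun j _ => ?_
    rw [Scheme.Modules.Hom.app_smul, hτ, Scheme.Modules.Hom.app_smul]
    exact congrArg (fun z => ProjUP.toGlobal (U.ι ≫ f) (cv o j) • z) (restrSec_iso U M (s j))
  haveI : IsImmersion (φ ≫ Λ) := by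
    refine isImmersion_of_sections (U.ι ≫ f) (φ ≫ Λ) (by rw [Category.assoc, hΛ, hφ]) τ'
      (fun p => U.ι ⁻¹ᵁ V p) (fun p => ?_) (fun x => ?_) (fun p => e.symm (Sum.inr (Sum.inl p))) β
      (fun p j => e.symm (Sum.inr (Sum.inr ⟨p, j⟩))) (fun p => ProjUP.pullSec U.ι M (S p))
      (fun p j => ProjUP.pullSec U.ι M (T p j)) (fun p => hval _ _ (hcS p)) (fun p j => hval _ _ (hcT p j))
      (fun p => ?_) (fun p j => U.ι.app (V p) (b p j)) (fun p j => ?_) fun p P h1 h2 => ?_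
    · exact (haff p).preimage_of_isOpenImmersion U.ι (by rw [Scheme.Opens.opensRange_ι]; exact hle p)
    · obtain ⟨p, hp⟩ := hcov x.1 x.2
      exact ⟨p, hp⟩
    · rw [← hV p]
      exact TrivBasic.locus_pullElt hM U.ι (S p)
    · show AModX.res _ (U.ι.preimage_mono (le_top : V p ≤ ⊤)) (InvX.pullElt U.ι (T p j)) =
        U.ι.app (V p) (b p j) • AModX.res _ (U.ι.preimage_mono (le_top : V p ≤ ⊤)) (InvX.pullElt U.ι (S p))
      rw [InvX.res_pullElt U.ι (le_top : V p ≤ ⊤), InvX.res_pullElt U.ι (le_top : V p ≤ ⊤), hb,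
        InvX.pullElt_smul]
    · haveI : IsIso (U.ι.app (V p)) := U.ι.isIso_app _ (by rw [Scheme.Opens.opensRange_ι]; exact hle p)
      have h3 := hgen p (P.comap (U.ι.app (V p)).hom) (by
        rintro _ ⟨c, rfl⟩
        refine h1 ⟨c, ?_⟩
        show ((U.ι ≫ f).appLE ⊤ _ le_top) c = (U.ι.app (V p)) ((f.appLE ⊤ (V p) le_top) c)
        rw [← CommRingCat.comp_apply, Scheme.Hom.app_eq_appLE, Scheme.Hom.appLE_comp_appLE])
        (by rintro _ ⟨j, rfl⟩; exact h2 ⟨j, rfl⟩)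
      refine top_le_iff.1 fun z _ => ?_
      obtain ⟨w, rfl⟩ := (ConcreteCategory.bijective_of_isIso (U.ι.app (V p))).2 z
      exact (h3.ge (Subring.mem_top w) : w ∈ P.comap (U.ι.app (V p)).hom)
  exact IsImmersion.of_comp φ Λ

end Groth.Agent.KerEmbed
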