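import Groth.Agent.VAmpleX.Eventually
import Groth.Agent.AmpleX.Sect
import Mathlib

/-! Sections with coefficients vanishing on a closed subscheme; powers of ample sections vanish there. -/

universe u

open CategoryTheory AlgebraicGeometry TopologicalSpace

set_option backward.isDefEq.respectTransparency false
set_option backward.isDefEq.respectTransparency.types false
set_option linter.style.haveILetI false

namespace Groth.Agent.KerEmbed

open Groth.Agent Groth.Agent.InvX Groth.Agent.H23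

attribute [local instance] PicMul.clMonoid

variable {X Z : Scheme.{u}}

/-- Locally a multiple of a section by a function vanishing on `Z`. -/
def Van (i : Z ⟶ X) {M : X.Modules} (s : Γ(M, ⊤)) : Prop :=
  ∀ x : X, ∃ (W : X.Opens) (_ : x ∈ W) (e : Γ(M, W)) (c : Γ(X, W)),
    AModX.res M (le_top : W ≤ ⊤) s = c • e ∧ i.app W c = 0

variable {i : Z ⟶ X} {M N : X.Modules}

theorem Van.pullSec_eq_zero {s : Γ(M, ⊤)} (h : Van i s) : ProjUP.pullSec i M s = 0 := by
  show InvX.pullElt i s = 0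
  refine AModX.eq_of_locally (M := (Scheme.Modules.pullback i).obj M) _ _ fun z _ => ?_
  obtain ⟨W, hW, e, c, hc, hi⟩ := h (i z)
  refine ⟨i ⁻¹ᵁ W, i.preimage_mono le_top, hW, ?_⟩
  rw [map_zero]
  refine (InvX.res_pullElt i (le_top : W ≤ ⊤) s).trans ?_
  rw [hc, InvX.pullElt_smul, hi, zero_smul]

theorem Van.tmul {s : Γ(M, ⊤)} (h : Van i s) (t : Γ(N, ⊤)) : Van i (InvX.tmul t s) := fun x => by
  obtain ⟨W, hW, e, c, hc, hi⟩ := h x
  exact ⟨W, hW, InvX.tmul (AModX.res N le_top t) e, c, by rw [InvX.res_tmul, hc, InvX.tmul_smul_right], hi⟩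

theorem Van.map {s : Γ(M, ⊤)} (h : Van i s) (φ : M ⟶ N) : Van i (φ.app ⊤ s) := fun x => by
  obtain ⟨W, hW, e, c, hc, hi⟩ := h x
  exact ⟨W, hW, φ.app W e, c, by rw [← AModX.app_res, hc, Scheme.Modules.Hom.app_smul], hi⟩

/-- Large powers of a section with locus away from `Z` vanish on `Z`. -/
theorem exists_van_powElt [CompactSpace X] [IsClosedImmersion i] (hM : PicF.IsInvertible M)
    (s : Coh.structureModule X ⟶ M) (hs : ∀ z : Z, i z ∉ CohB1.genLocus M s) :
    ∃ N₀ : ℕ, ∀ n, N₀ ≤ n → Van i (AmpleX.powElt (InvX.one s) n) := by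
  classical
  have hloc : ∀ x : X, ∃ (W : X.Opens) (_ : x ∈ W) (e : Γ(M, W)) (c : Γ(X, W)) (N₁ : ℕ),
      AModX.res M (le_top : W ≤ ⊤) (InvX.one s) = c • e ∧ (i.app W c) ^ N₁ = 0 := fun x => by
    obtain ⟨O, hxO, e₀, he₀⟩ := InvX.exists_frame hM x
    obtain ⟨_, ⟨W, hW, rfl⟩, hxW, hWO⟩ := X.isBasis_affineOpens.exists_subset_of_mem_open hxO O.isOpen
    have he := he₀.res (hWO : W ≤ O)
    obtain ⟨c, hc⟩ := he.exists_coord le_rfl (AModX.res M (le_top : W ≤ ⊤) (InvX.one s))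
    rw [AModX.res_self] at hc
    have hloc := InvX.genLocus_inf s he hc
    have hb : Z.basicOpen (i.app W c) = ⊥ := by
      rw [← Scheme.preimage_basicOpen, eq_bot_iff]
      intro z hz
      have : i z ∈ CohB1.genLocus M s ⊓ W := hloc.symm ▸ hz
      exact (hs z this.1).elim
    haveI : IsAffineHom i := inferInstance
    obtain ⟨N₁, hN⟩ := (Scheme.isNilpotent_iff_basicOpen_eq_bot_of_isCompact
      (hW.preimage i).isCompact (i.app W c)).2 hb
    exact ⟨W, hxW, _, c, N₁, hc, hN⟩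
  choose W hxW e c N₁ hc hN using hloc
  obtain ⟨S, hS⟩ := isCompact_univ.elim_finite_subcover (fun x => (W x : Set X)) (fun x => (W x).2)
    (fun x _ => Set.mem_iUnion.2 ⟨x, hxW x⟩)
  refine ⟨S.sup N₁, fun n hn x => ?_⟩
  obtain ⟨y, hy, hxy⟩ := Set.mem_iUnion₂.1 (hS (Set.mem_univ x))
  refine ⟨W y, hxy, AmpleX.powElt (e y) n, c y ^ n, ?_, ?_⟩
  · rw [AmpleX.res_powElt, hc, AmpleX.powElt_smul]
  · rw [map_pow]
    exact pow_eq_zero_of_le ((Finset.le_sup hy).trans hn) (hN y)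

/-- Sections of one degree vanishing on `Z`, with affine loci covering the complement. -/
theorem exists_cover [CompactSpace X] [X.IsSeparated] [IsClosedImmersion i] {L : X.Modules}
    (hL : CohB1.IsAmple L) (U : X.Opens) (hU : (U : Set X) = (Set.range i)ᶜ)
    (hUc : IsCompact (U : Set X)) :
    ∃ (a : ℕ) (_ : 0 < a) (κ : Type u) (_ : Fintype κ)
      (σ : κ → (Coh.structureModule X ⟶ CohB1.tensorPow L a)),
      (∀ k, IsAffineOpen (CohB1.genLocus _ (σ k))) ∧ (∀ k, Van i (InvX.one (σ k))) ∧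
      (∀ k, CohB1.genLocus _ (σ k) ≤ U) ∧ ∀ x ∈ U, ∃ k, x ∈ CohB1.genLocus _ (σ k) := by
  classical
  have hloc : ∀ x : U, ∃ (m : ℕ) (_ : 0 < m) (s : Coh.structureModule X ⟶ CohB1.tensorPow L m),
      x.1 ∈ CohB1.genLocus _ s ∧ CohB1.genLocus _ s ≤ U ∧ IsAffineOpen (CohB1.genLocus _ s) :=
    fun x => AmpleX.exists_genLocus_le hL x.2
  choose m hm s hxs hle hs using hloc
  obtain ⟨S, hS⟩ := hUc.elim_finite_subcover
    (fun x => (CohB1.genLocus _ (s x) : Set X)) (fun x => (CohB1.genLocus _ (s x)).2)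
    (fun x hx => Set.mem_iUnion.2 ⟨⟨x, hx⟩, hxs _⟩)
  have hN := fun x : U => exists_van_powElt (i := i) (InvX.isInvertible_tensorPow hL.1 (m x)) (s x)
    fun z hz => by
      have : i z ∈ (U : Set X) := hle x hz
      rw [hU] at this
      exact this ⟨z, rfl⟩
  choose N₀ hN₀ using hN
  let N := S.sup N₀ + 1
  let P := ∏ x ∈ S, m x
  have hP : 0 < P := Finset.prod_pos fun x _ => hm x
  have hpow : ∀ x : S, ∃ t : Coh.structureModule X ⟶ CohB1.tensorPow L (P * N),
      CohB1.genLocus _ t = CohB1.genLocus _ (s x) ∧ Van i (InvX.one t) := fun x => by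
    obtain ⟨c, hc⟩ : m x ∣ P := Finset.dvd_prod_of_mem _ x.2
    have hc0 : 0 < c := Nat.pos_of_ne_zero fun h0 => by rw [h0, mul_zero] at hc; exact hP.ne' hc
    obtain ⟨k, hk⟩ : ∃ k, c * N = k + 1 :=
      Nat.exists_eq_add_of_le' (Nat.one_le_iff_ne_zero.2 (Nat.mul_ne_zero hc0.ne' (Nat.succ_ne_zero _)))
    obtain ⟨e⟩ := PicMul.cl_eq_iff.1 (show PicF.cl (CohB1.tensorPow (CohB1.tensorPow L (m x)) (k + 1)) =
        PicF.cl (CohB1.tensorPow L (P * N)) by
      rw [PicMul.cl_tensorPow, PicMul.cl_tensorPow, PicMul.cl_tensorPow, ← pow_mul, ← hk, ← mul_assoc, ← hc])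
    refine ⟨InvX.powHom (s x) (k + 1) ≫ e.hom, (InvX.genLocus_comp_iso _ e).trans
      (InvX.genLocus_powHom (InvX.isInvertible_tensorPow hL.1 _) _ k), ?_⟩
    have h1 : Van i (InvX.one (InvX.powHom (s x) (k + 1))) := by
      rw [AmpleX.one_powHom]
      refine hN₀ x _ ?_
      have h2 : N₀ x ≤ S.sup N₀ := Finset.le_sup x.2
      have h3 : N ≤ c * N := Nat.le_mul_of_pos_left _ hc0
      omega
    exact h1.map e.hom
  choose t ht hv using hpow
  refine ⟨P * N, Nat.mul_pos hP (Nat.succ_pos _), S, inferInstance, t, fun x => (ht x).symm ▸ hs x, hv,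
    fun x => (ht x).trans_le (hle x), fun x hx => ?_⟩
  obtain ⟨y, hy, hxy⟩ := Set.mem_iUnion₂.1 (hS hx)
  exact ⟨⟨y, hy⟩, (ht ⟨y, hy⟩).symm ▸ hxy⟩

end Groth.Agent.KerEmbed
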